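import Mathlib

/-!
# S4816 case (e): modules all of whose orbits have size prime to `p` (helper524)

`PX p H V`: `H` acts faithfully and irreducibly on the finite elementary abelian `p`-group `V`, all orbits of size
prime to `p`.  `fx V L`: the fixed points of the subgroup `L` (an `AddSubgroup`).

* `PX.exists_sylow`: every `v` is fixed by a Sylow `p`-subgroup;
* `PX.union`: `|V| + n ≤ 1 + n |C_V(P)|`, `PX.card_le`, `PX.card_lt`, `PX.index_lt`: `|V : C_V(P)| < n = n_p(H)`;
* `fx_inf`, `index_fx_sup_le`, `index_fx_closure`: generation by `k` conjugates: `|V| ≤ |V : C_V(P)| ^ k`;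
* `PX.fx_normal`, `PX.fx_top`: normal subgroups have no fixed points;
* `PX.center_free`: a central element `≠ 1` has no fixed points `≠ 0`.
-/

set_option autoImplicit false
set_option linter.unusedSectionVars false

namespace Cfsg.Agent.H524.RIM

variable {H : Type*} [Group H] {V : Type*} [AddCommGroup V] [DistribMulAction H V]

/-- the fixed points of a subgroup -/
def fx (V : Type*) [AddCommGroup V] [DistribMulAction H V] (L : Subgroup H) : AddSubgroup V where
  carrier := {v | ∀ g ∈ L, g • v = v}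
  zero_mem' := fun _ _ => smul_zero _
  add_mem' := fun {a b} ha hb g hg => by rw [smul_add, ha g hg, hb g hg]
  neg_mem' := fun {a} ha g hg => by rw [smul_neg, ha g hg]

theorem mem_fx {L : Subgroup H} {v : V} : v ∈ fx V L ↔ ∀ g ∈ L, g • v = v := Iff.rfl

theorem fx_mono {L M : Subgroup H} (h : L ≤ M) : fx V M ≤ fx V L := fun _ hv g hg => hv g (h hg)

theorem mem_fx_stab {L : Subgroup H} {v : V} : v ∈ fx V L ↔ L ≤ MulAction.stabilizer H v :=
  ⟨fun h g hg => h g hg, fun h g hg => h hg⟩

theorem mem_fx_zpowers {x : H} {v : V} : v ∈ fx V (Subgroup.zpowers x) ↔ x • v = v := by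
  rw [mem_fx_stab, Subgroup.zpowers_le]
  rfl

theorem fx_bot : fx V (⊥ : Subgroup H) = ⊤ := by
  ext v
  simp only [mem_fx, Subgroup.mem_bot, AddSubgroup.mem_top, iff_true]
  rintro g rfl
  exact one_smul H v

theorem fx_sup (L M : Subgroup H) : fx V (L ⊔ M) = fx V L ⊓ fx V M := by
  ext v
  rw [AddSubgroup.mem_inf, mem_fx_stab, mem_fx_stab, mem_fx_stab, sup_le_iff]

theorem fx_iSup {ι : Type*} (L : ι → Subgroup H) : fx V (⨆ i, L i) = ⨅ i, fx V (L i) := by
  ext v
  rw [AddSubgroup.mem_iInf, mem_fx_stab, iSup_le_iff]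
  exact forall_congr' fun i => mem_fx_stab.symm

theorem fx_le_zpowers {L : Subgroup H} {x : H} (hx : x ∈ L) : fx V L ≤ fx V (Subgroup.zpowers x) :=
  fx_mono (Subgroup.zpowers_le.2 hx)

/-- conjugation -/
theorem mem_fx_conj {L : Subgroup H} {g : H} {v : V} :
    v ∈ fx V (L.map (MulAut.conj g).toMonoidHom) ↔ g⁻¹ • v ∈ fx V L := by
  constructor
  · intro h x hx
    have h1 := h (g * x * g⁻¹) ⟨x, hx, rfl⟩
    rw [mul_smul, mul_smul] at h1
    calc x • g⁻¹ • v = g⁻¹ • g • x • g⁻¹ • v := (inv_smul_smul g _).symm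
      _ = g⁻¹ • v := by rw [h1]
  · rintro h _ ⟨x, hx, rfl⟩
    have h1 := h x hx
    change (g * x * g⁻¹) • v = v
    rw [mul_smul, mul_smul, h1, smul_inv_smul]

/-- the automorphism of `V` given by an element -/
def act (V : Type*) [AddCommGroup V] [DistribMulAction H V] (g : H) : V ≃+ V := DistribMulAction.toAddEquiv V g

theorem fx_conj_eq (L : Subgroup H) (g : H) :
    fx V (L.map (MulAut.conj g).toMonoidHom) = (fx V L).map (act V g).toAddMonoidHom := by
  ext v
  rw [mem_fx_conj]
  constructor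
  · intro h
    exact ⟨g⁻¹ • v, h, smul_inv_smul g v⟩
  · rintro ⟨u, hu, rfl⟩
    change g⁻¹ • g • u ∈ _
    rwa [inv_smul_smul]

theorem index_fx_conj (L : Subgroup H) (g : H) :
    (fx V (L.map (MulAut.conj g).toMonoidHom)).index = (fx V L).index := by
  rw [fx_conj_eq]
  exact AddSubgroup.index_map_equiv _ (act V g)

theorem card_fx_conj (L : Subgroup H) (g : H) :
    Nat.card (fx V (L.map (MulAut.conj g).toMonoidHom)) = Nat.card (fx V L) := by
  rw [fx_conj_eq]
  exact Nat.card_congr ((act V g).addSubgroupMap (fx V L)).toEquiv.symm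

theorem card_mul_index (V : Type*) [AddCommGroup V] [DistribMulAction H V] (L : Subgroup H) :
    Nat.card (fx V L) * (fx V L).index = Nat.card V := AddSubgroup.card_mul_index _

theorem index_inf_le (A B : AddSubgroup V) : (A ⊓ B).index ≤ A.index * B.index := AddSubgroup.index_inf_le

theorem index_fx_sup_le (L M : Subgroup H) : (fx V (L ⊔ M)).index ≤ (fx V L).index * (fx V M).index := by
  rw [fx_sup]
  exact index_inf_le _ _

theorem index_fx_mono [Finite V] {L M : Subgroup H} (h : L ≤ M) : (fx V L).index ≤ (fx V M).index :=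
  Nat.le_of_dvd (Nat.pos_of_ne_zero AddSubgroup.index_ne_zero_of_finite) (AddSubgroup.index_dvd_of_le (fx_mono h))

/-- products of elements -/
theorem index_fx_mul_le [Finite V] (x y : H) : (fx V (Subgroup.zpowers (x * y))).index ≤
    (fx V (Subgroup.zpowers x)).index * (fx V (Subgroup.zpowers y)).index := by
  refine le_trans ?_ (index_fx_sup_le _ _)
  apply index_fx_mono
  rw [Subgroup.zpowers_le]
  exact mul_mem (Subgroup.mem_sup_left (Subgroup.mem_zpowers x)) (Subgroup.mem_sup_right (Subgroup.mem_zpowers y))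

/-- **generation**: subgroups `L i`, `i ∈ s`, with `|V : C_V(L i)| ≤ m` generate a subgroup `M` with
`|V : C_V(M)| ≤ m ^ |s|`. -/
theorem index_fx_iSup_le [Finite V] {ι : Type*} (s : Finset ι) (L : ι → Subgroup H) {m : ℕ}
    (h : ∀ i ∈ s, (fx V (L i)).index ≤ m) : (fx V (⨆ i ∈ s, L i)).index ≤ m ^ s.card := by
  classical
  induction s using Finset.induction_on with
  | empty => simp [fx_bot]
  | insert a s ha ih =>
    rw [Finset.iSup_insert, Finset.card_insert_of_notMem ha, pow_succ, mul_comm]
    refine (index_fx_sup_le _ _).trans (Nat.mul_le_mul (h a (Finset.mem_insert_self a s)) (ih ?_))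
    intro i hi
    exact h i (Finset.mem_insert_of_mem hi)

/-- `k` conjugates of `P` generate `M`. -/
theorem index_fx_of_conj [Finite V] {k : ℕ} (P M : Subgroup H) (f : Fin k → H)
    (hM : M ≤ ⨆ i, P.map (MulAut.conj (f i)).toMonoidHom) : (fx V M).index ≤ (fx V P).index ^ k := by
  classical
  refine (index_fx_mono hM).trans ?_
  have h := index_fx_iSup_le (V := V) (Finset.univ : Finset (Fin k))
    (fun i => P.map (MulAut.conj (f i)).toMonoidHom) (m := (fx V P).index) (fun i _ => (index_fx_conj P (f i)).le)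
  simpa using h

/-! ### the structure -/

/-- faithful irreducible module with all orbits of size prime to `p` -/
structure PX (p : ℕ) (H V : Type*) [Group H] [AddCommGroup V] [DistribMulAction H V] : Prop where
  exp : ∀ v : V, p • v = 0
  nt : Nontrivial V
  faith : ∀ h : H, (∀ v : V, h • v = v) → h = 1
  irr : ∀ W : AddSubgroup V, (∀ h : H, ∀ w ∈ W, h • w ∈ W) → W = ⊥ ∨ W = ⊤
  orb : ∀ v : V, ¬ p ∣ (MulAction.stabilizer H v).index

namespace PX

variable {p : ℕ} [hp : Fact p.Prime] [Finite H] [Finite V]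

/-- fixed points of normal subgroups -/
theorem fx_normal (h : PX p H V) (N : Subgroup H) [hN : N.Normal] (hN1 : N ≠ ⊥) : fx V N = ⊥ := by
  rcases h.irr (fx V N) (by
    intro g w hw n hn
    have h1 : g⁻¹ * n * g ∈ N := by simpa using hN.conj_mem n hn g⁻¹
    have h2 := hw _ h1
    rw [mul_smul, mul_smul] at h2
    calc n • g • w = g • g⁻¹ • n • g • w := (smul_inv_smul g _).symm
      _ = g • w := by rw [h2]) with h1 | h1
  · exact h1
  · exfalso
    apply hN1
    rw [Subgroup.eq_bot_iff_forall]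
    intro n hn
    apply h.faith
    intro v
    have : v ∈ fx V N := by rw [h1]; exact AddSubgroup.mem_top v
    exact this n hn

theorem fx_top (h : PX p H V) [Nontrivial H] : fx V (⊤ : Subgroup H) = ⊥ := h.fx_normal ⊤ top_ne_bot

/-- central elements act without fixed points -/
theorem center_free (h : PX p H V) {z : H} (hz : z ∈ Subgroup.center H) (hz1 : z ≠ 1) {v : V} (hv : z • v = v) :
    v = 0 := by
  have hn : (Subgroup.zpowers z).Normal := by
    constructor
    intro n hn g
    have hc : n ∈ Subgroup.center H := (Subgroup.zpowers_le.2 hz) hn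
    have : g * n * g⁻¹ = n := by rw [Subgroup.mem_center_iff.1 hc g, mul_inv_cancel_right]
    rw [this]; exact hn
  have h1 := h.fx_normal (Subgroup.zpowers z) (by rwa [Ne, Subgroup.zpowers_eq_bot])
  have h2 : v ∈ fx V (Subgroup.zpowers z) := mem_fx_zpowers.2 hv
  rw [h1] at h2
  exact h2

/-- every vector is fixed by a Sylow subgroup -/
theorem exists_sylow (h : PX p H V) (v : V) : ∃ P : Sylow p H, v ∈ fx V (P : Subgroup H) := by
  classical
  let T := MulAction.stabilizer H v
  obtain ⟨Q⟩ := (inferInstance : Nonempty (Sylow p T))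
  have hcard : Nat.card (Q : Subgroup T) = p ^ (Nat.card T).factorization p := Q.card_eq_multiplicity
  have hT : Nat.card T * T.index = Nat.card H := Subgroup.card_mul_index T
  have hidx : T.index ≠ 0 := Subgroup.index_ne_zero_of_finite
  have hfac : (Nat.card H).factorization p = (Nat.card T).factorization p := by
    rw [← hT, Nat.factorization_mul Nat.card_pos.ne' hidx, Finsupp.add_apply,
      Nat.factorization_eq_zero_of_not_dvd (h.orb v), add_zero]
  let Q' : Subgroup H := (Q : Subgroup T).map T.subtype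
  have hQ' : Nat.card Q' = p ^ (Nat.card H).factorization p := by
    rw [hfac, ← hcard]
    exact Nat.card_congr ((Q : Subgroup T).equivMapOfInjective T.subtype T.subtype_injective).toEquiv.symm
  refine ⟨Sylow.ofCard Q' hQ', ?_⟩
  rw [mem_fx_stab, Sylow.coe_ofCard]
  rintro _ ⟨x, -, rfl⟩
  exact x.2

theorem card_fx_sylow (P Q : Sylow p H) : Nat.card (fx V (P : Subgroup H)) = Nat.card (fx V (Q : Subgroup H)) := by
  obtain ⟨g, hg⟩ := MulAction.exists_smul_eq H P Q
  rw [← hg]
  exact (card_fx_conj (V := V) (P : Subgroup H) g).symm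

/-- **union bound** -/
theorem union (h : PX p H V) (P : Sylow p H) :
    Nat.card V + Nat.card (Sylow p H) ≤ 1 + Nat.card (Sylow p H) * Nat.card (fx V (P : Subgroup H)) := by
  classical
  have : Fintype V := Fintype.ofFinite V
  have : Fintype (Sylow p H) := Fintype.ofFinite _
  set n := Nat.card (Sylow p H) with hn
  let F : Sylow p H → Finset V := fun Q => (Finset.univ.filter (fun v => v ∈ fx V (Q : Subgroup H))).erase 0
  have hF : ∀ Q, (F Q).card = Nat.card (fx V (P : Subgroup H)) - 1 := by
    intro Q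
    rw [Finset.card_erase_of_mem (by simp), card_fx_sylow P Q, Nat.card_eq_fintype_card]
    rw [Fintype.card_subtype]
  have hcov : (Finset.univ.erase (0 : V)) ⊆ Finset.univ.biUnion F := by
    intro v hv
    obtain ⟨Q, hQ⟩ := h.exists_sylow v
    rw [Finset.mem_biUnion]
    refine ⟨Q, Finset.mem_univ _, ?_⟩
    simp only [F, Finset.mem_erase, Finset.mem_filter, Finset.mem_univ, true_and]
    exact ⟨(Finset.mem_erase.1 hv).1, hQ⟩
  have h1 := (Finset.card_le_card hcov).trans (Finset.card_biUnion_le)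
  rw [Finset.card_erase_of_mem (Finset.mem_univ _), Finset.card_univ] at h1
  simp only [hF] at h1
  rw [Finset.sum_const, Finset.card_univ, smul_eq_mul, ← Nat.card_eq_fintype_card, ← Nat.card_eq_fintype_card, ← hn] at h1
  have hpos : 0 < Nat.card (fx V (P : Subgroup H)) := Nat.card_pos
  obtain ⟨c, hc⟩ := Nat.exists_eq_add_of_le hpos
  rw [hc] at h1 ⊢
  have h2 : n * (0 + 1 + c) = n + n * c := by ring
  simp only [Nat.succ_eq_add_one] at *
  have h3 : 0 + 1 + c - 1 = c := by omega
  rw [h3] at h1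
  rw [h2]
  omega

theorem card_le (h : PX p H V) (P : Sylow p H) :
    Nat.card V ≤ Nat.card (Sylow p H) * Nat.card (fx V (P : Subgroup H)) := by
  have h1 := h.union P
  have h2 : 0 < Nat.card (Sylow p H) := Nat.card_pos
  omega

theorem card_lt (h : PX p H V) (P : Sylow p H) (hn : 1 < Nat.card (Sylow p H)) :
    Nat.card V < Nat.card (Sylow p H) * Nat.card (fx V (P : Subgroup H)) := by
  have h1 := h.union P
  omega

/-- `|V : C_V(P)| < n_p(H)` -/
theorem index_lt (h : PX p H V) (P : Sylow p H) (hn : 1 < Nat.card (Sylow p H)) :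
    (fx V (P : Subgroup H)).index < Nat.card (Sylow p H) := by
  have h1 := h.card_lt P hn
  rw [← card_mul_index V (P : Subgroup H), mul_comm] at h1
  exact lt_of_mul_lt_mul_right h1 (Nat.zero_le _)

theorem index_le (h : PX p H V) (P : Sylow p H) :
    (fx V (P : Subgroup H)).index ≤ Nat.card (Sylow p H) := by
  have h1 := h.card_le P
  rw [← card_mul_index V (P : Subgroup H), mul_comm] at h1
  exact le_of_mul_le_mul_right h1 Nat.card_pos

/-- the order of `V` and all indices are powers of `p` -/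
theorem card_eq (h : PX p H V) : ∃ n : ℕ, Nat.card V = p ^ n := by
  have hV : IsPGroup p (Multiplicative V) := by
    intro v
    refine ⟨1, ?_⟩
    rw [pow_one]
    exact h.exp (Multiplicative.toAdd v)
  obtain ⟨n, hn⟩ := IsPGroup.iff_card.1 hV
  exact ⟨n, hn⟩

theorem index_eq (h : PX p H V) (A : AddSubgroup V) : ∃ n : ℕ, A.index = p ^ n := by
  obtain ⟨n, hn⟩ := h.card_eq
  have h1 : A.index ∣ p ^ n := by
    rw [← hn]
    exact Dvd.intro_left _ (AddSubgroup.card_mul_index A)
  obtain ⟨m, -, hm⟩ := (Nat.dvd_prime_pow hp.out).1 h1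
  exact ⟨m, hm⟩

/-- `|V : C_V(P)| = p ^ d` with `p ^ d < n_p(H)`; `d ≤ D` as soon as `n_p(H) ≤ p ^ (D + 1)` -/
theorem index_le_pow (h : PX p H V) (P : Sylow p H) {D : ℕ} (hn : 1 < Nat.card (Sylow p H))
    (hD : Nat.card (Sylow p H) ≤ p ^ (D + 1)) : (fx V (P : Subgroup H)).index ≤ p ^ D := by
  obtain ⟨d, hd⟩ := h.index_eq (fx V (P : Subgroup H))
  have h1 := (h.index_lt P hn).trans_le hD
  rw [hd] at h1 ⊢
  have h2 : d < D + 1 := (Nat.pow_lt_pow_iff_right hp.out.one_lt).1 h1
  exact Nat.pow_le_pow_right hp.out.pos (by omega)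

/-- **generation by `k` conjugates of a Sylow subgroup** -/
theorem card_le_pow (h : PX p H V) (P : Sylow p H) {k : ℕ} (f : Fin k → H) [Nontrivial H]
    (hgen : (⨆ i, (P : Subgroup H).map (MulAut.conj (f i)).toMonoidHom) = ⊤) :
    Nat.card V ≤ (fx V (P : Subgroup H)).index ^ k := by
  have h1 := index_fx_of_conj (V := V) (P : Subgroup H) ⊤ f hgen.ge
  rw [h.fx_top, AddSubgroup.index_bot] at h1
  exact h1

/-- **generation**, final form: `n_p(H) ≤ p ^ (D + 1)`, `k` Sylow subgroups generate `H`: `|V| ≤ p ^ (k D)` -/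
theorem card_le_pow' (h : PX p H V) (P : Sylow p H) {k D : ℕ} (f : Fin k → H) [Nontrivial H]
    (hn : 1 < Nat.card (Sylow p H)) (hD : Nat.card (Sylow p H) ≤ p ^ (D + 1))
    (hgen : (⨆ i, (P : Subgroup H).map (MulAut.conj (f i)).toMonoidHom) = ⊤) :
    Nat.card V ≤ p ^ (k * D) := by
  refine (h.card_le_pow P f hgen).trans ?_
  rw [mul_comm, pow_mul]
  exact Nat.pow_le_pow_left (h.index_le_pow P hn hD) k

/-- every vector `≠ 0` has a proper stabilizer containing a Sylow subgroup -/
theorem exists_proper (h : PX p H V) [Nontrivial H] {v : V} (hv : v ≠ 0) :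
    MulAction.stabilizer H v ≠ ⊤ ∧ ∃ P : Sylow p H, (P : Subgroup H) ≤ MulAction.stabilizer H v := by
  constructor
  · intro h1
    have h2 : v ∈ fx V (⊤ : Subgroup H) := by rw [mem_fx_stab, h1]
    rw [h.fx_top] at h2
    exact hv h2
  · obtain ⟨P, hP⟩ := h.exists_sylow v
    exact ⟨P, mem_fx_stab.1 hP⟩

end PX

end Cfsg.Agent.H524.RIM
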